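import Groth.Agent.FinCovLib.Sec
import Groth.Agent.CycBdlLib.Pts
import Groth.Agent.FlatLib.QStalk
import Mathlib.AlgebraicGeometry.Morphisms.FlatRank
import Mathlib.RingTheory.Spectrum.Prime.FreeLocus

/-!
# Covers and locally free direct images
-/

set_option autoImplicit false
set_option backward.isDefEq.respectTransparency false
set_option backward.isDefEq.respectTransparency.types false
universe u

open CategoryTheory CategoryTheory.Limits AlgebraicGeometry TopologicalSpace Opposite

noncomputable section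

namespace FinCovLib

variable {X : Scheme.{u}}

/-- A basis of the sections over an affine open is a frame. -/
theorem isFrame_of_affine_basis {M : X.Modules} [Coh.IsQCoh M] {n : ℕ} {V : X.Opens} (hV : IsAffineOpen V)
    (b : Module.Basis (Fin n) Γ(X, V) Γ(M, V)) : ProjFormLib.IsFrame M (fun i => b i) := by
  intro y hy
  letI : Algebra Γ(X, V) (X.presheaf.stalk y) := (X.presheaf.germ V y hy).hom.toAlgebra
  letI : Module Γ(X, V) (M.presheaf.stalk y) := Module.compHom _ (X.presheaf.germ V y hy).hom
  haveI : IsScalarTower Γ(X, V) (X.presheaf.stalk y) (M.presheaf.stalk y) :=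
    IsScalarTower.of_algebraMap_smul fun _ _ => rfl
  haveI : IsLocalization.AtPrime (X.presheaf.stalk y) (hV.primeIdealOf ⟨y, hy⟩).asIdeal :=
    hV.isLocalization_stalk ⟨y, hy⟩
  haveI : IsLocalizedModule (hV.primeIdealOf ⟨y, hy⟩).asIdeal.primeCompl (FlatLib.germLin M hy) :=
    FlatLib.isLocalizedModule_germLin M hV hy
  let bs := b.ofIsLocalizedModule (X.presheaf.stalk y) (hV.primeIdealOf ⟨y, hy⟩).asIdeal.primeCompl
    (FlatLib.germLin M hy)
  refine (congrArg Function.Bijective (funext fun c => ?_)).mpr bs.equivFun.symm.bijective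
  rw [Fintype.linearCombination_apply, Module.Basis.equivFun_symm_apply]
  refine Finset.sum_congr rfl fun i _ => ?_
  rw [Module.Basis.ofIsLocalizedModule_apply]
  rfl

variable {Y : Scheme.{u}} (f : X ⟶ Y)

/-- the functions on a preimage as an algebra -/
@[reducible] def preAlg (V : Y.Opens) : Algebra Γ(Y, V) Γ(X, f ⁻¹ᵁ V) := (f.app V).hom.toAlgebra

attribute [local instance] preAlg

theorem finrank_of_affine [IsFinite f] [Flat f] {V : Y.Opens} (hV : IsAffineOpen V) {y : Y} (hy : y ∈ V) :
    f.finrank y = Module.rankAtStalk Γ(X, f ⁻¹ᵁ V) (hV.primeIdealOf ⟨y, hy⟩) := by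
  have hU := hV.preimage f
  have hfin : (f.app V).hom.Finite := f.finite_app V hV
  have hflat : (f.app V).hom.Flat := by
    have := Flat.flat_appLE f hV hU le_rfl
    rwa [← Scheme.Hom.app_eq_appLE] at this
  haveI : IsAffine V.toScheme := hV
  have sq : IsPullback hU.fromSpec (Spec.map (f.app V)) f hV.fromSpec := by
    have e1 : IsPullback (hU.isoSpec.inv) (Spec.map (f.app V)) (f ∣_ V) hV.isoSpec.inv :=
      IsPullback.of_horiz_isIso ⟨by
        rw [← cancel_mono V.ι, Category.assoc, Category.assoc, morphismRestrict_ι, hV.isoSpec_inv_ι,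
          hU.isoSpec_inv_ι_assoc, Scheme.Hom.app_eq_appLE, hV.SpecMap_appLE_fromSpec f hU]⟩
    have := e1.paste_horiz (isPullback_morphismRestrict f V).flip
    rwa [hV.isoSpec_inv_ι, hU.isoSpec_inv_ι] at this
  have h3 := Scheme.Hom.finrank_of_isPullback _ _ _ _ sq (hV.primeIdealOf ⟨y, hy⟩)
  rw [Scheme.Hom.finrank_SpecMap_eq_finrank hfin hflat, hV.fromSpec_primeIdealOf] at h3
  exact h3.symm

/-- A morphism with locally free direct image of rank `d` in each small affine chart is a cover of degree `d`. -/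
theorem isCover_of_bases [IsAffineHom f] (d : ℕ)
    (h : ∀ y : Y, ∃ V : Y.Opens, IsAffineOpen V ∧ y ∈ V ∧
      Nonempty (Module.Basis (Fin d) Γ(Y, V) Γ(X, f ⁻¹ᵁ V))) : FinCov.IsCover f d := by
  choose V hV hyV b using h
  have hcov : ⨆ y, V y = ⊤ := eq_top_iff.mpr fun y _ => Opens.mem_iSup.mpr ⟨y, hyV y⟩
  have hprops : ∀ y, (f.app (V y)).hom.Finite ∧ (f.app (V y)).hom.Flat ∧ (f.app (V y)).hom.FinitePresentation :=
    fun y => by
      haveI := Module.Finite.of_basis (b y).some
      haveI := Module.Free.of_basis (b y).some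
      haveI : Module.FinitePresentation Γ(Y, V y) Γ(X, f ⁻¹ᵁ V y) := Module.finitePresentation_of_projective _ _
      refine ⟨?_, ?_, ?_⟩
      · exact RingHom.finite_algebraMap.mpr inferInstance
      · exact RingHom.flat_algebraMap_iff.mpr inferInstance
      · exact RingHom.finitePresentation_algebraMap.mpr inferInstance
  have harrow : ∀ y, f ∣_ V y =
      ((hV y).preimage f).isoSpec.hom ≫ Spec.map (f.app (V y)) ≫ (hV y).isoSpec.inv := fun y => by
    rw [← Iso.inv_comp_eq, ← cancel_mono (V y).ι, Category.assoc, Category.assoc, morphismRestrict_ι,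
      (hV y).isoSpec_inv_ι, ((hV y).preimage f).isoSpec_inv_ι_assoc, Scheme.Hom.app_eq_appLE,
      (hV y).SpecMap_appLE_fromSpec f ((hV y).preimage f)]
  haveI hfin : IsFinite f := IsZariskiLocalAtTarget.of_iSup_eq_top V hcov fun y => by
    rw [harrow, MorphismProperty.cancel_left_of_respectsIso @IsFinite,
      MorphismProperty.cancel_right_of_respectsIso @IsFinite]
    rw [IsFinite.SpecMap_iff]
    exact (hprops y).1
  haveI hflat : Flat f := IsZariskiLocalAtTarget.of_iSup_eq_top V hcov fun y => by
    rw [harrow, MorphismProperty.cancel_left_of_respectsIso @Flat,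
      MorphismProperty.cancel_right_of_respectsIso @Flat]
    rw [Flat.SpecMap_iff]
    exact (hprops y).2.1
  haveI hlfp : LocallyOfFinitePresentation f := IsZariskiLocalAtTarget.of_iSup_eq_top V hcov fun y => by
    rw [harrow, MorphismProperty.cancel_left_of_respectsIso @LocallyOfFinitePresentation,
      MorphismProperty.cancel_right_of_respectsIso @LocallyOfFinitePresentation]
    rw [LocallyOfFinitePresentation.SpecMap_iff]
    exact (hprops y).2.2
  refine ⟨⟨hfin, hflat, hlfp⟩, fun y => ?_⟩
  rw [finrank_of_affine f (hV y) (hyV y)]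
  haveI := Module.Free.of_basis (b y).some
  haveI := Module.Finite.of_basis (b y).some
  haveI : Nontrivial Γ(Y, V y) := ((hV y).primeIdealOf ⟨y, hyV y⟩).nontrivial
  rw [Module.rankAtStalk_eq_finrank_of_free, Pi.natCast_apply, Nat.cast_id,
    Module.finrank_eq_card_basis (b y).some, Fintype.card_fin]

/-- Locally free direct image gives bases in small affine charts. -/
theorem exists_basis_of_push [IsAffineHom f] {d : ℕ}
    (h : FlatMod.IsFinLocFreeOfRank d ((Scheme.Modules.pushforward f).obj (Coh.structureModule X))) (y : Y) :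
    ∃ V : Y.Opens, IsAffineOpen V ∧ y ∈ V ∧ Nonempty (Module.Basis (Fin d) Γ(Y, V) Γ(X, f ⁻¹ᵁ V)) := by
  let E := (Scheme.Modules.pushforward f).obj (Coh.structureModule X)
  haveI : Coh.IsQCoh E := FinLFAnn.isQCoh_of_isFinLocFree (GrassSch.finLocFree_of_rank h)
  obtain ⟨U, e, hyU, he⟩ := exists_frame_rank h y
  obtain ⟨V, hV, hyV, hVU⟩ := exists_isAffineOpen_mem_and_subset (x := y) (U := U) hyU
  refine ⟨V, hV, hyV, ?_⟩
  let es : Fin d → Γ(X, f ⁻¹ᵁ V) := fun i => ProjFormLib.res E hVU (e i)
  let L : (Fin d → Γ(Y, V)) →ₗ[Γ(Y, V)] Γ(X, f ⁻¹ᵁ V) := Fintype.linearCombination Γ(Y, V) es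
  have hL : Function.Bijective L := frame_bijective' he hV hVU
  exact ⟨Module.Basis.ofEquivFun (LinearEquiv.ofBijective L hL).symm⟩

/-- A cover of degree `d` has direct image locally free of rank `d`. -/
theorem rank_push_of_isCover {d : ℕ} (h : FinCov.IsCover f d) :
    FlatMod.IsFinLocFreeOfRank d ((Scheme.Modules.pushforward f).obj (Coh.structureModule X)) := by
  obtain ⟨⟨hfin, hflat, hlfp⟩, hrank⟩ := h
  let E := (Scheme.Modules.pushforward f).obj (Coh.structureModule X)
  haveI : Coh.IsQCoh (Coh.structureModule X) := QCohLib.isQCoh_unit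
  haveI : Coh.IsQCoh E := QCohLib.isQCoh_pushforward f _
  refine GrassSch.rank_of_frames fun y => ?_
  obtain ⟨V, hV, hyV, -⟩ := exists_isAffineOpen_mem_and_subset (x := y) (U := ⊤) trivial
  let R := Γ(Y, V)
  let S := Γ(X, f ⁻¹ᵁ V)
  have hfin' : (f.app V).hom.Finite := f.finite_app V hV
  have hflat' : (f.app V).hom.Flat := by
    have := Flat.flat_appLE f hV (hV.preimage f) le_rfl
    rwa [← Scheme.Hom.app_eq_appLE] at this
  have hfp : (f.app V).hom.FinitePresentation := by
    have := LocallyOfFinitePresentation.finitePresentation_appLE f hV (hV.preimage f) le_rfl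
    rwa [← Scheme.Hom.app_eq_appLE] at this
  haveI : Module.Finite R S := hfin'
  haveI : Module.Flat R S := hflat'
  haveI : Algebra.FinitePresentation R S := hfp
  haveI : Module.FinitePresentation R S := Module.FinitePresentation.of_finite_of_finitePresentation R S
  let p := hV.primeIdealOf ⟨y, hyV⟩
  haveI : Module.Free (Localization.AtPrime p.asIdeal) (LocalizedModule p.asIdeal.primeCompl S) :=
    Module.free_of_flat_of_isLocalRing
  obtain ⟨r, hr, hfree, hrk⟩ := Module.FinitePresentation.exists_free_localizedModule_powers p.asIdeal.primeCompl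
    (LocalizedModule.mkLinearMap p.asIdeal.primeCompl S) (Localization.AtPrime p.asIdeal)
  have hd : Module.finrank (Localization.AtPrime p.asIdeal) (LocalizedModule p.asIdeal.primeCompl S) = d :=
    (finrank_of_affine f hV hyV).symm.trans (hrank y)
  let D := Y.basicOpen r
  have hyD : y ∈ D := by
    have := hV.isLocalization_stalk ⟨y, hyV⟩
    rw [Scheme.mem_basicOpen _ _ _ hyV]
    letI : Algebra R (Y.presheaf.stalk y) := (Y.presheaf.germ V y hyV).hom.toAlgebra
    exact (IsLocalization.AtPrime.isUnit_to_map_iff (Y.presheaf.stalk y) p.asIdeal r).mpr hr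
  let Rr := Γ(Y, D)
  let Sr := Γ(X, f ⁻¹ᵁ D)
  letI : Algebra R Rr := (rX (Y.basicOpen_le r)).toAlgebra
  letI : Algebra S Sr := (X.presheaf.map (homOfLE (f.preimage_mono (Y.basicOpen_le r))).op).hom.toAlgebra
  letI : Algebra R Sr := ((f.app D).hom.comp (rX (Y.basicOpen_le r))).toAlgebra
  haveI : IsScalarTower R Rr Sr := IsScalarTower.of_algebraMap_eq' rfl
  haveI : IsScalarTower R S Sr := IsScalarTower.of_algebraMap_eq fun s =>
    ConcreteCategory.congr_hom (f.c.naturality (homOfLE (Y.basicOpen_le r)).op) s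
  haveI : IsLocalization (Submonoid.powers r) Rr := hV.isLocalization_basicOpen r
  haveI : IsLocalization (Algebra.algebraMapSubmonoid S (Submonoid.powers r)) Sr := by
    have := RelSpec.QCAlg.isQC_pushforward f V hV r
    rwa [show Algebra.algebraMapSubmonoid S (Submonoid.powers r) = Submonoid.powers (algebraMap R S r) from
      Submonoid.map_powers _ _]
  haveI : IsLocalizedModule (Submonoid.powers r) (IsScalarTower.toAlgHom R S Sr).toLinearMap :=
    isLocalizedModule_iff_isLocalization.mpr inferInstance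
  let Lr := Localization (Submonoid.powers r)
  let φ : Lr ≃ₐ[R] Rr := IsLocalization.algEquiv (Submonoid.powers r) _ _
  letI : Module Lr Sr := Module.compHom Sr φ.toRingEquiv.toRingHom
  haveI : IsScalarTower R Lr Sr := IsScalarTower.of_algebraMap_smul fun s z =>
    (congrArg (· • z) (φ.commutes s)).trans (algebraMap_smul Rr s z)
  let θ : LocalizedModule (Submonoid.powers r) S ≃ₗ[Lr] Sr :=
    (IsLocalizedModule.iso (Submonoid.powers r) (IsScalarTower.toAlgHom R S Sr).toLinearMap).extendScalarsOfIsLocalization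
      (Submonoid.powers r) Lr
  have hfin_r : Module.Finite Lr (LocalizedModule (Submonoid.powers r) S) :=
    Module.Finite.of_isLocalizedModule (Submonoid.powers r) (Rₚ := Lr)
      (LocalizedModule.mkLinearMap (Submonoid.powers r) S)
  haveI : Nontrivial Lr := (show Lr →+* Localization.AtPrime p.asIdeal from
    IsLocalization.map (M := Submonoid.powers r) (T := p.asIdeal.primeCompl) _ (RingHom.id _)
      (Submonoid.powers_le.mpr hr)).domain_nontrivial
  let b0 : Module.Basis (Fin d) Lr (LocalizedModule (Submonoid.powers r) S) :=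
    (Module.finBasisOfFinrankEq Lr _ (hrk.trans hd))
  let b1 : Module.Basis (Fin d) Rr Sr := (b0.map θ).mapCoeffs φ.toRingEquiv fun c z => rfl
  let b : Module.Basis (Fin d) Γ(Y, D) Γ(E, D) := b1
  exact ⟨D, fun i => b i, hyD, isFrame_of_affine_basis (hV.basicOpen r) b⟩

/-- The bases of an algebra as bases of functions on its spectrum. -/
theorem exists_basis_spec (A : RelSpec.QCAlg X) {d : ℕ} (hA : FlatMod.IsFinLocFreeOfRank d A.toModule) (x : X) :
    ∃ V : X.Opens, IsAffineOpen V ∧ x ∈ V ∧
      Nonempty (Module.Basis (Fin d) Γ(X, V) Γ(A.spec, A.π ⁻¹ᵁ V)) := by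
  obtain ⟨V, hV, hxV, -, ⟨b⟩⟩ := exists_basis_near A hA (U := ⊤) (x := x) trivial
  refine ⟨V, hV, hxV, ?_⟩
  letI := secAlg A V
  let σ := ((CycBdlLib.toF A).app (op V)).hom
  have hσ : Function.Bijective σ := by
    haveI : IsIso (CycBdlLib.toF A) := inferInstanceAs (IsIso (inv A.gammaMap))
    exact ConcreteCategory.bijective_of_isIso ((CycBdlLib.toF A).app (op V))
  have hs : ∀ r : Γ(X, V), σ ((A.str.app (op V)).hom r) = (A.π.app V).hom r := fun r =>
    ConcreteCategory.congr_hom (NatTrans.congr_app (CycBdlLib.str_toF A) (op V)) r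
  let L : A.presheaf.obj (op V) →ₗ[Γ(X, V)] Γ(A.spec, A.π ⁻¹ᵁ V) :=
    { toFun := σ
      map_add' := map_add σ
      map_smul' := fun r a => by
        rw [Algebra.smul_def, map_mul, algebraMap_eq, hs]
        rfl }
  exact ⟨b.map (LinearEquiv.ofBijective L hσ)⟩

end FinCovLib
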