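import Groth.Prelude.Def_FinCov
import Groth.Agent.GrassLib.SchBase
import Groth.Agent.DetDegLib.Frame
import Groth.Agent.CohCmpLib.FrameTools
import Groth.Agent.QCSubLib.Main
import Mathlib.RingTheory.Localization.NormTrace

/-!
# Sections of finite locally free algebras: good opens and bases
-/

set_option autoImplicit false
set_option backward.isDefEq.respectTransparency false
set_option backward.isDefEq.respectTransparency.types false
universe u

open CategoryTheory CategoryTheory.Limits AlgebraicGeometry TopologicalSpace Opposite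

noncomputable section

namespace FinCovLib

variable {X : Scheme.{u}} (A : RelSpec.QCAlg X)

/-- the sections of `A` as an algebra over the functions -/
@[reducible] def secAlg (U : X.Opens) : Algebra Γ(X, U) (A.presheaf.obj (op U)) :=
  (A.str.app (op U)).hom.toAlgebra

attribute [local instance] secAlg

theorem algebraMap_eq (U : X.Opens) (s : Γ(X, U)) :
    algebraMap Γ(X, U) (A.presheaf.obj (op U)) s = (A.str.app (op U)).hom s := rfl

/-- restriction of functions -/
abbrev rX {U V : X.Opens} (h : V ≤ U) : Γ(X, U) →+* Γ(X, V) := (X.presheaf.map (homOfLE h).op).hom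

/-- restriction of sections of `A` -/
abbrev rA {U V : X.Opens} (h : V ≤ U) : A.presheaf.obj (op U) →+* A.presheaf.obj (op V) :=
  (A.presheaf.map (homOfLE h).op).hom

theorem rX_comp {U V W : X.Opens} (h : V ≤ U) (h' : W ≤ V) (s : Γ(X, U)) :
    rX h' (rX h s) = rX (h'.trans h) s :=
  (ConcreteCategory.congr_hom (X.presheaf.map_comp (homOfLE h).op (homOfLE h').op) s).symm

theorem rA_comp {U V W : X.Opens} (h : V ≤ U) (h' : W ≤ V) (a : A.presheaf.obj (op U)) :
    rA A h' (rA A h a) = rA A (h'.trans h) a :=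
  (ConcreteCategory.congr_hom (A.presheaf.map_comp (homOfLE h).op (homOfLE h').op) a).symm

theorem rA_refl {U : X.Opens} (a : A.presheaf.obj (op U)) : rA A (le_refl U) a = a :=
  ConcreteCategory.congr_hom (A.presheaf.map_id (op U)) a

theorem rX_refl {U : X.Opens} (a : Γ(X, U)) : rX (le_refl U) a = a :=
  ConcreteCategory.congr_hom (X.presheaf.map_id (op U)) a

theorem rA_str {U V : X.Opens} (h : V ≤ U) (s : Γ(X, U)) :
    rA A h ((A.str.app (op U)).hom s) = (A.str.app (op V)).hom (rX h s) :=
  (ConcreteCategory.congr_hom (A.str.naturality (homOfLE h).op) s).symm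

theorem rA_smul {U V : X.Opens} (h : V ≤ U) (s : Γ(X, U)) (a : A.presheaf.obj (op U)) :
    rA A h (s • a) = rX h s • rA A h a := by
  rw [Algebra.smul_def, Algebra.smul_def, map_mul, algebraMap_eq, algebraMap_eq, rA_str]

/-- an affine open over which the algebra is finite free -/
def Good (V : X.Opens) : Prop :=
  IsAffineOpen V ∧ Module.Free Γ(X, V) (A.presheaf.obj (op V)) ∧ Module.Finite Γ(X, V) (A.presheaf.obj (op V))

/-- the trace of the algebra of sections -/
def tr (V : X.Opens) (a : A.presheaf.obj (op V)) : Γ(X, V) :=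
  Algebra.trace Γ(X, V) (A.presheaf.obj (op V)) a

variable {A}

theorem good_of_basis {V : X.Opens} (hV : IsAffineOpen V) {ι : Type*} [Finite ι]
    (b : Module.Basis ι Γ(X, V) (A.presheaf.obj (op V))) : Good A V :=
  ⟨hV, Module.Free.of_basis b, Module.Finite.of_basis b⟩

theorem tr_basicOpen {V : X.Opens} (hV : Good A V) (r : Γ(X, V)) :
    Good A (X.basicOpen r) ∧ ∀ a, tr A (X.basicOpen r) (rA A (X.basicOpen_le r) a) =
      rX (X.basicOpen_le r) (tr A V a) := by
  obtain ⟨hVa, hfree, hfin⟩ := hV
  let R := Γ(X, V)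
  let S := A.presheaf.obj (op V)
  let Rm := Γ(X, X.basicOpen r)
  let Sm := A.presheaf.obj (op (X.basicOpen r))
  letI : Algebra R Rm := (rX (X.basicOpen_le r)).toAlgebra
  letI : Algebra S Sm := (rA A (X.basicOpen_le r)).toAlgebra
  letI : Algebra R Sm := ((rA A (X.basicOpen_le r)).comp (A.str.app (op V)).hom).toAlgebra
  haveI : IsScalarTower R S Sm := IsScalarTower.of_algebraMap_eq' rfl
  haveI : IsScalarTower R Rm Sm := IsScalarTower.of_algebraMap_eq fun s => rA_str A (X.basicOpen_le r) s
  haveI : IsLocalization (Submonoid.powers r) Rm := hVa.isLocalization_basicOpen r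
  haveI : IsLocalization (Algebra.algebraMapSubmonoid S (Submonoid.powers r)) Sm := by
    have h := A.isQC V hVa r
    rwa [show Algebra.algebraMapSubmonoid S (Submonoid.powers r) = Submonoid.powers (algebraMap R S r) from
      Submonoid.map_powers _ _]
  haveI := hfree
  haveI := hfin
  let b := Module.Free.chooseBasis R S
  exact ⟨good_of_basis (hVa.basicOpen r) (b.localizationLocalization Rm (Submonoid.powers r) Sm),
    fun a => Algebra.trace_localization R (Submonoid.powers r) a⟩

/-- Germs of finitely many functions are represented on a common open. -/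
theorem exists_common_rep {n : ℕ} {y : X} (c : Fin n → X.presheaf.stalk y) :
    ∃ (W : X.Opens) (hy : y ∈ W) (s : Fin n → Γ(X, W)), ∀ i, X.presheaf.germ W y hy (s i) = c i := by
  choose Wi hWi t ht using fun i => X.presheaf.exists_germ_eq (x := y) (c i)
  let W : X.Opens := Finset.univ.inf Wi
  have hy : y ∈ W := by
    change y ∈ ((Finset.univ.inf Wi : X.Opens) : Set X)
    rw [Opens.coe_finset_inf, Finset.inf_eq_iInf]
    simp only [Function.comp_apply, Set.iInf_eq_iInter, Set.mem_iInter]
    exact fun i _ => hWi i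
  have hle : ∀ i, W ≤ Wi i := fun i => Finset.inf_le (Finset.mem_univ i)
  exact ⟨W, hy, fun i => rX (hle i) (t i), fun i =>
    (TopCat.Presheaf.germ_res_apply X.presheaf (homOfLE (hle i)) y hy (t i)).trans (ht i)⟩

/-- Sections giving bases over all small affine opens form a frame. -/
theorem isFrame_of_bases {M : X.Modules} {n : ℕ} {U : X.Opens} (e : Fin n → Γ(M, U))
    (h : ∀ (V : X.Opens), IsAffineOpen V → ∀ (hVU : V ≤ U),
      Function.Bijective fun c : Fin n → Γ(X, V) => ∑ i, c i • ProjFormLib.res M hVU (e i)) :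
    ProjFormLib.IsFrame M e := by
  intro y hy
  have hcomb : ∀ (V : X.Opens) (hVU : V ≤ U) (hyV : y ∈ V) (c : Fin n → Γ(X, V)),
      ProjFormLib.ger M y hyV (∑ i, c i • ProjFormLib.res M hVU (e i)) =
        ∑ i, X.presheaf.germ V y hyV (c i) • ProjFormLib.ger M y hy (e i) := fun V hVU hyV c => by
    refine (map_sum (M.presheaf.germ V y hyV).hom _ _).trans (Finset.sum_congr rfl fun i _ => ?_)
    exact (ProjFormLib.ger_smul M y hyV (c i) _).trans
      (congrArg (_ • ·) (ProjFormLib.ger_res M hVU y hyV (e i)))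
  constructor
  · intro c c' hcc
    obtain ⟨W, hyW, s, hs⟩ := exists_common_rep c
    obtain ⟨W', hyW', s', hs'⟩ := exists_common_rep c'
    obtain ⟨V, hV, hyV, hVW⟩ := exists_isAffineOpen_mem_and_subset (x := y) (U := W ⊓ W' ⊓ U) ⟨⟨hyW, hyW'⟩, hy⟩
    have h1 : V ≤ W := hVW.trans (inf_le_left.trans inf_le_left)
    have h2 : V ≤ W' := hVW.trans (inf_le_left.trans inf_le_right)
    have h3 : V ≤ U := hVW.trans inf_le_right
    have hg : ProjFormLib.ger M y hyV (∑ i, rX h1 (s i) • ProjFormLib.res M h3 (e i)) =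
        ProjFormLib.ger M y hyV (∑ i, rX h2 (s' i) • ProjFormLib.res M h3 (e i)) := by
      rw [hcomb, hcomb]
      simp only [TopCat.Presheaf.germ_res_apply, hs, hs']
      simpa only [Fintype.linearCombination_apply] using hcc
    obtain ⟨T, hyT, i₁, i₂, hT⟩ := M.presheaf.germ_eq y hyV hyV _ _ hg
    obtain rfl : i₁ = i₂ := Subsingleton.elim _ _
    obtain ⟨T', hT', hyT', hTT⟩ := exists_isAffineOpen_mem_and_subset (x := y) (U := T) hyT
    have hle : T' ≤ V := le_trans hTT i₁.le
    have hr : ∀ d : Fin n → Γ(X, V), ProjFormLib.res M hle (∑ i, d i • ProjFormLib.res M h3 (e i)) =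
        ∑ i, rX hle (d i) • ProjFormLib.res M (hle.trans h3) (e i) := fun d => by
      refine (map_sum (M.presheaf.map (homOfLE hle).op).hom _ _).trans (Finset.sum_congr rfl fun i _ => ?_)
      exact (QCohLib.map_smul' M (homOfLE hle) (d i) _).trans
        (congrArg (_ • ·) (QCohLib.map_map' M (homOfLE hle) (homOfLE h3) (e i)))
    have heq : ProjFormLib.res M hle (∑ i, rX h1 (s i) • ProjFormLib.res M h3 (e i)) =
        ProjFormLib.res M hle (∑ i, rX h2 (s' i) • ProjFormLib.res M h3 (e i)) := by
      have := congrArg (ProjFormLib.res M hTT) hT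
      exact ((QCohLib.map_map' M (homOfLE hTT) i₁ _).symm.trans this).trans (QCohLib.map_map' M (homOfLE hTT) i₁ _)
    rw [hr, hr] at heq
    have := (h T' hT' (hle.trans h3)).1 heq
    funext i
    have hi := congrArg (X.presheaf.germ T' y hyT') (congrFun this i)
    simpa only [TopCat.Presheaf.germ_res_apply, hs, hs'] using hi
  · intro z
    obtain ⟨W, hyW, s, rfl⟩ := ProjFormLib.exists_ger M y z
    obtain ⟨V, hV, hyV, hVW⟩ := exists_isAffineOpen_mem_and_subset (x := y) (U := W ⊓ U) ⟨hyW, hy⟩
    have h1 : V ≤ W := hVW.trans inf_le_left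
    have h3 : V ≤ U := hVW.trans inf_le_right
    obtain ⟨c, hc⟩ := (h V hV h3).2 (ProjFormLib.res M h1 s)
    refine ⟨fun i => X.presheaf.germ V y hyV (c i), ?_⟩
    rw [Fintype.linearCombination_apply, ← ProjFormLib.ger_res M h1 y hyV s, ← hcomb V h3 hyV]
    exact congrArg (ProjFormLib.ger M y hyV) hc

/-- Frames of rank `n` exist near every point of a module locally free of rank `n`. -/
theorem exists_frame_rank {M : X.Modules} {n : ℕ} (hM : FlatMod.IsFinLocFreeOfRank n M) (x : X) :
    ∃ (U : X.Opens) (e : Fin n → Γ(M, U)), x ∈ U ∧ ProjFormLib.IsFrame M e := by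
  obtain ⟨U, m, e, hx, he⟩ := ProjFormLib.exists_frame (GrassSch.finLocFree_of_rank hM) x
  obtain ⟨E⟩ := CurvLib.nonempty_stalk_pi_of_locFree hM x
  obtain rfl : m = n := by
    have h := (he.basis x hx).map E
    simpa using Module.finrank_eq_card_basis h |>.symm.trans (Module.finrank_pi _)
  exact ⟨U, e, hx, he⟩

/-- A frame restricted to an affine open is a basis of the sections. -/
theorem frame_bijective' {M : X.Modules} [Coh.IsQCoh M] {n : ℕ} {U V : X.Opens} {e : Fin n → Γ(M, U)}
    (he : ProjFormLib.IsFrame M e) (hV : IsAffineOpen V) (h : V ≤ U) :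
    Function.Bijective fun c : Fin n → Γ(X, V) => ∑ i, c i • ProjFormLib.res M h (e i) :=
  DetDegLib.frame_bijective hV _ fun x hx => by
    have := he.res h x hx
    exact this

/-- A frame gives a basis of the algebra of sections over a small affine open. -/
def basisOfFrame (A : RelSpec.QCAlg X) {n : ℕ} {U V : X.Opens} {e : Fin n → Γ(A.toModule, U)}
    (he : ProjFormLib.IsFrame A.toModule e) (hV : IsAffineOpen V) (h : V ≤ U) :
    Module.Basis (Fin n) Γ(X, V) (A.presheaf.obj (op V)) :=
  haveI := QCSubLib.isQCoh_toModule A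
  let L : (Fin n → Γ(X, V)) →ₗ[Γ(X, V)] A.presheaf.obj (op V) :=
    Fintype.linearCombination Γ(X, V) (fun i => (ProjFormLib.res A.toModule h (e i) : A.presheaf.obj (op V)))
  have hL : Function.Bijective L := frame_bijective' he hV h
  Module.Basis.ofEquivFun (LinearEquiv.ofBijective L hL).symm

theorem exists_basis_near (A : RelSpec.QCAlg X) {n : ℕ} (hA : FlatMod.IsFinLocFreeOfRank n A.toModule)
    {U : X.Opens} {x : X} (hx : x ∈ U) :
    ∃ V : X.Opens, IsAffineOpen V ∧ x ∈ V ∧ V ≤ U ∧
      Nonempty (Module.Basis (Fin n) Γ(X, V) (A.presheaf.obj (op V))) := by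
  obtain ⟨W, e, hxW, he⟩ := exists_frame_rank hA x
  obtain ⟨V, hV, hxV, hVW⟩ := exists_isAffineOpen_mem_and_subset (x := x) (U := U ⊓ W) ⟨hx, hxW⟩
  exact ⟨V, hV, hxV, le_trans hVW inf_le_left, ⟨basisOfFrame A he hV (le_trans hVW inf_le_right)⟩⟩

theorem exists_good_near (hA : FlatMod.IsFinLocFree A.toModule) {U : X.Opens} {x : X} (hx : x ∈ U) :
    ∃ V : X.Opens, x ∈ V ∧ V ≤ U ∧ Good A V := by
  obtain ⟨W, n, e, hxW, he⟩ := ProjFormLib.exists_frame hA x
  obtain ⟨V, hV, hxV, hVW⟩ := exists_isAffineOpen_mem_and_subset (x := x) (U := U ⊓ W) ⟨hx, hxW⟩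
  exact ⟨V, hxV, le_trans hVW inf_le_left, good_of_basis hV (basisOfFrame A he hV (le_trans hVW inf_le_right))⟩

end FinCovLib
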