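import Groth.Agent.FinCovLib.Trace
import Groth.Agent.GrTildeLib.TensLift
import Groth.Agent.RichLib.IsFPAffine

/-!
# Splitting off the trace
-/

set_option autoImplicit false
set_option backward.isDefEq.respectTransparency false
set_option backward.isDefEq.respectTransparency.types false
universe u

open CategoryTheory CategoryTheory.Limits AlgebraicGeometry TopologicalSpace Opposite

noncomputable section

namespace FinCovLib

attribute [local instance] secAlg

/-- The kernel of a functional taking a unit value on a basis vector is free on the corrected other vectors. -/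
theorem kernel_basis {R M : Type*} [CommRing R] [AddCommGroup M] [Module R M] {n : ℕ}
    (b : Module.Basis (Fin (n + 1)) R M) (φ : M →ₗ[R] R) (i : Fin (n + 1)) (w : R) (hw : w * φ (b i) = 1) :
    let v : Fin n → M := fun k => b (i.succAbove k) - (φ (b (i.succAbove k)) * w) • b i
    (∀ k, φ (v k) = 0) ∧ Function.Injective (fun c : Fin n → R => ∑ k, c k • v k) ∧
      ∀ a, φ a = 0 → ∃ c : Fin n → R, ∑ k, c k • v k = a := by
  intro v
  refine ⟨fun k => ?_, fun c c' h => funext fun k => ?_, fun a ha => ?_⟩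
  · simp only [v, map_sub, map_smul, smul_eq_mul, mul_assoc, hw, mul_one, sub_self]
  · have key : ∀ d : Fin n → R, b.repr (∑ l, d l • v l) (i.succAbove k) = d k := fun d => by
      rw [map_sum, Finsupp.finsetSum_apply]
      rw [Finset.sum_eq_single k]
      · simp [v, b.repr_self_apply, (Fin.succAbove_ne i k).symm]
      · intro l _ hl
        simp [v, b.repr_self_apply, (Fin.succAbove_ne i k).symm, hl]
      · simp
    have := congrArg (fun m => b.repr m (i.succAbove k)) h
    simpa only [key] using this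
  · refine ⟨fun k => b.repr a (i.succAbove k), ?_⟩
    have h0 := ha
    rw [← b.sum_repr a, map_sum, Fin.sum_univ_succAbove _ i] at h0
    simp only [map_smul, smul_eq_mul] at h0
    have h1 : ∑ k, b.repr a (i.succAbove k) * (φ (b (i.succAbove k)) * w) = - b.repr a i := by
      have h2 : ∑ k, b.repr a (i.succAbove k) * φ (b (i.succAbove k)) = -(b.repr a i * φ (b i)) :=
        eq_neg_of_add_eq_zero_right h0
      simp only [← mul_assoc]
      rw [← Finset.sum_mul, h2, neg_mul, mul_assoc, mul_comm (φ (b i)) w, hw, mul_one]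
    simp only [v, smul_sub, Finset.sum_sub_distrib, smul_smul]
    rw [← Finset.sum_smul, h1, neg_smul, sub_neg_eq_add, add_comm, ← Fin.sum_univ_succAbove (fun l => b.repr a l • b l) i,
      b.sum_repr]

/-- In a free algebra of rank two a trace-zero element has scalar square. -/
theorem sq_scalar {R S : Type*} [CommRing R] [CommRing S] [Algebra R S] (b : Module.Basis (Fin 2) R S) (a : S)
    (ha : Algebra.trace R S a = 0) : ∃ c : R, a * a = algebraMap R S c := by
  classical
  refine ⟨-(Algebra.leftMulMatrix b a).det, Algebra.leftMulMatrix_injective b ?_⟩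
  rw [Algebra.trace_eq_matrix_trace b, Matrix.trace_fin_two] at ha
  rw [map_mul, AlgHom.commutes, Matrix.algebraMap_eq_diagonal, Matrix.det_fin_two]
  generalize Algebra.leftMulMatrix b a = N at ha
  ext p q
  have h11 : N 1 1 = -N 0 0 := eq_neg_of_add_eq_zero_right ha
  fin_cases p <;> fin_cases q <;>
    simp [Matrix.mul_apply, Fin.sum_univ_two, Matrix.diagonal, h11] <;> ring

theorem prod_scalar {R S : Type*} [CommRing R] [CommRing S] [Algebra R S] (b : Module.Basis (Fin 2) R S) (half : R)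
    (hhalf : 2 * half = 1) (a a' : S) (ha : Algebra.trace R S a = 0) (ha' : Algebra.trace R S a' = 0) :
    a * a' = algebraMap R S (half * Algebra.trace R S (a * a')) := by
  obtain ⟨c, hc⟩ := sq_scalar b a ha
  obtain ⟨c', hc'⟩ := sq_scalar b a' ha'
  obtain ⟨d, hd⟩ := sq_scalar b (a + a') (by rw [map_add, ha, ha', add_zero])
  have hh : (2 : S) * algebraMap R S half = 1 := by
    rw [← map_ofNat (algebraMap R S) 2, ← map_mul, hhalf, map_one]
  have hprod : a * a' = algebraMap R S (half * (d - c - c')) := by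
    rw [map_mul, map_sub, map_sub, ← hd, ← hc, ← hc']
    linear_combination (-(a * a')) * hh
  have htr : Algebra.trace R S (a * a') = d - c - c' := by
    rw [hprod, Algebra.trace_algebraMap_of_basis b, Fintype.card_fin, two_smul, ← two_mul, ← mul_assoc, hhalf,
      one_mul]
  rw [htr, hprod]

variable {X : Scheme.{u}} {A : RelSpec.QCAlg X} {τ : A.toModule ⟶ Coh.structureModule X}

/-- the trace as a linear map on sections -/
abbrev τL (τ : A.toModule ⟶ Coh.structureModule X) (U : X.Opens) : A.presheaf.obj (op U) →ₗ[Γ(X, U)] Γ(X, U) :=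
  QCohLib.appLin τ U

theorem τL_res (τ : A.toModule ⟶ Coh.structureModule X) {U V : X.Opens} (h : V ≤ U)
    (a : A.presheaf.obj (op U)) : rX h (τL τ U a) = τL τ V (rA A h a) :=
  app_res τ h a

/-- the inclusion of the kernel on sections -/
abbrev ιL (τ : A.toModule ⟶ Coh.structureModule X) (U : X.Opens) :
    Γ(kernel τ, U) →ₗ[Γ(X, U)] A.presheaf.obj (op U) :=
  QCohLib.appLin (kernel.ι τ) U

theorem ιL_injective (τ : A.toModule ⟶ Coh.structureModule X) (U : X.Opens) : Function.Injective (ιL τ U) :=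
  QCohLib.app_injective_of_mono (kernel.ι τ) U

theorem τL_ιL (τ : A.toModule ⟶ Coh.structureModule X) (U : X.Opens) (k : Γ(kernel τ, U)) :
    τL τ U (ιL τ U k) = 0 := by
  have h := congrArg (fun f => Scheme.Modules.Hom.app f U k) (kernel.condition τ)
  exact h

theorem exists_ιL (τ : A.toModule ⟶ Coh.structureModule X) {U : X.Opens} {a : A.presheaf.obj (op U)}
    (ha : τL τ U a = 0) : ∃ k, ιL τ U k = a :=
  GrassSch.exists_lift_kernel τ a ha

theorem ιL_res (τ : A.toModule ⟶ Coh.structureModule X) {U V : X.Opens} (h : V ≤ U) (k : Γ(kernel τ, U)) :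
    ιL τ V (ProjFormLib.res (kernel τ) h k) = rA A h (ιL τ U k) :=
  QCohLib.app_map (kernel.ι τ) (homOfLE h) k

variable {d : ℕ}

theorem τL_one (hd : FlatMod.IsFinLocFreeOfRank d A.toModule) (hτ : FinCov.IsTrace A τ) (U : X.Opens) :
    τL τ U 1 = (d : Γ(X, U)) := by
  rw [← map_one (A.str.app (op U)).hom]
  refine (trace_str hd hτ U 1).trans ?_
  exact (nsmul_one d : d • (1 : Γ(X, U)) = _)

theorem isFinLocFreeOfRank_kernel (hd : FlatMod.IsFinLocFreeOfRank d A.toModule) (hτ : FinCov.IsTrace A τ)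
    (hu : IsUnit ((d : Γ(X, ⊤)))) : FlatMod.IsFinLocFreeOfRank (d - 1) (kernel τ) := by
  refine GrassSch.rank_of_frames fun x => ?_
  obtain ⟨U, e, hxU, he⟩ := exists_frame_rank hd x
  obtain ⟨V, hV, hxV, hVU⟩ := exists_isAffineOpen_mem_and_subset (x := x) (U := U) hxU
  have hVU : V ≤ U := hVU
  let b := basisOfFrame A he hV hVU
  have hVu : IsUnit (X.presheaf.germ V x hxV ((d : Γ(X, V)))) := by
    have := hu.map ((X.presheaf.germ V x hxV).hom.comp (rX (le_top : V ≤ ⊤)))
    simpa using this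
  have hex : ∃ i, IsUnit (X.presheaf.germ V x hxV (τL τ V (b i))) := by
    by_contra hne
    simp only [not_exists] at hne
    refine (IsLocalRing.mem_maximalIdeal _).mp ?_ hVu
    rw [← τL_one hd hτ V, ← b.sum_repr 1, map_sum, map_sum]
    refine Ideal.sum_mem _ fun i _ => ?_
    rw [map_smul, smul_eq_mul, map_mul]
    exact Ideal.mul_mem_left _ _ (hne i)
  obtain ⟨i, hi⟩ := hex
  obtain ⟨n, rfl⟩ : ∃ n, d = n + 1 := ⟨d - 1, (Nat.sub_add_cancel (Nat.one_le_iff_ne_zero.mpr
    fun h0 => by subst h0; exact i.elim0)).symm⟩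
  let W := X.basicOpen (τL τ V (b i))
  have hxW : x ∈ W := (Scheme.mem_basicOpen _ _ _ _).mpr hi
  have hWU : W ≤ U := (X.basicOpen_le _).trans hVU
  let eW : Fin (n + 1) → A.presheaf.obj (op W) := fun l => ProjFormLib.res A.toModule hWU (e l)
  have hbi : τL τ W (eW i) = rX (X.basicOpen_le _) (τL τ V (b i)) := by
    rw [τL_res]
    refine congrArg (τL τ W) ?_
    have hb : b i = ProjFormLib.res A.toModule hVU (e i) := by
      classical
      simp [b, basisOfFrame, Module.Basis.coe_ofEquivFun, Fintype.linearCombination_apply, Pi.single_apply]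
    exact ((congrArg (rA A (X.basicOpen_le _)) hb).trans (rA_comp A hVU _ _)).symm
  have huW : IsUnit (τL τ W (eW i)) := hbi ▸ RingedSpace.isUnit_res_basicOpen _ (τL τ V (b i))
  let w : Γ(X, W) := ↑huW.unit⁻¹
  have hw : w * τL τ W (eW i) = 1 := huW.val_inv_mul
  let v : Fin n → A.presheaf.obj (op W) := fun k =>
    eW (i.succAbove k) - (τL τ W (eW (i.succAbove k)) * w) • eW i
  have hv : ∀ k, τL τ W (v k) = 0 := fun k => by
    simp only [v, map_sub, map_smul, smul_eq_mul, mul_assoc, hw, mul_one, sub_self]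
  choose k hk using fun l => exists_ιL τ (hv l)
  refine ⟨W, k, hxW, isFrame_of_bases k fun V' hV' hV'W => ?_⟩
  let b' := basisOfFrame A he hV' (hV'W.trans hWU)
  have hb' : ∀ l, b' l = rA A hV'W (eW l) := fun l => by
    classical
    simp only [b', basisOfFrame, Module.Basis.coe_ofEquivFun]
    simp [Fintype.linearCombination_apply, Pi.single_apply]
    exact (rA_comp A hWU hV'W _).symm
  have hw' : rX hV'W w * τL τ V' (b' i) = 1 := by rw [hb', ← τL_res, ← map_mul, hw, map_one]
  obtain ⟨-, hinj, hsurj⟩ := kernel_basis b' (τL τ V') i (rX hV'W w) hw'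
  have hcomb : ∀ c : Fin n → Γ(X, V'), ιL τ V' (∑ l, c l • ProjFormLib.res (kernel τ) hV'W (k l)) =
      ∑ l, c l • (b' (i.succAbove l) - (τL τ V' (b' (i.succAbove l)) * rX hV'W w) • b' i) := fun c => by
    rw [map_sum]
    refine Finset.sum_congr rfl fun l _ => ?_
    rw [map_smul, ιL_res, hk]
    simp only [v, map_sub, rA_smul, map_mul, hb', τL_res]
  constructor
  · intro c c' h
    exact hinj ((hcomb c).symm.trans ((congrArg (ιL τ V') h).trans (hcomb c')))
  · intro z
    obtain ⟨c, hc⟩ := hsurj (ιL τ V' z) (τL_ιL τ V' z)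
    exact ⟨c, ιL_injective τ V' ((hcomb c).trans hc)⟩

theorem isSplitEpi_trace (hd : FlatMod.IsFinLocFreeOfRank d A.toModule) (hτ : FinCov.IsTrace A τ)
    (hu : IsUnit ((d : Γ(X, ⊤)))) : IsSplitEpi τ := by
  let c : Γ(Coh.structureModule X, (⊤ : X.Opens)) := (↑hu.unit⁻¹ : Γ(X, ⊤))
  refine IsSplitEpi.mk' ⟨QCohLib.unitHom _ c ≫ FinCov.strMod A, ?_⟩
  refine Scheme.Modules.hom_ext _ _ fun U => ?_
  ext r
  show (τ.val.app (op U)).hom ((A.str.app (op U)).hom ((show Γ(X, U) from r) *
    rX (le_top : U ≤ ⊤) (↑hu.unit⁻¹ : Γ(X, ⊤)))) = r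
  refine (trace_str hd hτ U _).trans ?_
  rw [nsmul_eq_mul, mul_comm (show Γ(X, U) from r), ← mul_assoc, ← map_natCast (rX (le_top : U ≤ ⊤)) d, ← map_mul,
    hu.mul_val_inv, map_one, one_mul]

section Dbl

variable (hA : FlatMod.IsFinLocFreeOfRank 2 A.toModule) (hτ : FinCov.IsTrace A τ) (half : Γ(X, ⊤))
  (hhalf : 2 * half = 1)

/-- two sections of `A` agreeing on small opens agree -/
theorem sec_ext_local {U : X.Opens} {a a' : A.presheaf.obj (op U)}
    (h : ∀ x ∈ U, ∃ (V : X.Opens) (hVU : V ≤ U), x ∈ V ∧ rA A hVU a = rA A hVU a') : a = a' := by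
  refine TopCat.Presheaf.section_ext (⟨A.presheaf, A.isSheaf⟩ : TopCat.Sheaf CommRingCat.{u} X.toTopCat) U _ _
    fun x hx => ?_
  obtain ⟨V, hVU, hxV, e⟩ := h x hx
  show A.presheaf.germ U x hx a = A.presheaf.germ U x hx a'
  rw [← TopCat.Presheaf.germ_res_apply A.presheaf (homOfLE hVU) x hxV,
    ← TopCat.Presheaf.germ_res_apply A.presheaf (homOfLE hVU) x hxV]
  exact congrArg (A.presheaf.germ V x hxV) e

include hA hτ hhalf in
theorem kernel_mul {U : X.Opens} (k k' : Γ(kernel τ, U)) :
    ιL τ U k * ιL τ U k' =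
      (A.str.app (op U)).hom (rX (le_top : U ≤ ⊤) half * τL τ U (ιL τ U k * ιL τ U k')) := by
  refine sec_ext_local fun x hx => ?_
  obtain ⟨V, hV, hxV, hVU, ⟨b⟩⟩ := exists_basis_near A hA hx
  refine ⟨V, hVU, hxV, ?_⟩
  have hg : Good A V := good_of_basis hV b
  have h0 : ∀ k : Γ(kernel τ, U), Algebra.trace Γ(X, V) (A.presheaf.obj (op V)) (rA A hVU (ιL τ U k)) = 0 :=
    fun k => by
      refine (app_good hτ hg _).symm.trans ?_
      rw [← ιL_res]
      exact τL_ιL τ V _
  rw [map_mul (rA A hVU), rA_str, map_mul (rX hVU), τL_res, rX_comp, map_mul (rA A hVU)]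
  rw [prod_scalar b (rX (le_top : V ≤ ⊤) half) (by rw [← map_ofNat (rX (le_top : V ≤ ⊤)) 2, ← map_mul, hhalf,
    map_one]) _ _ (h0 k) (h0 k'), algebraMap_eq]
  refine congrArg (fun t => (A.str.app (op V)).hom (rX (le_top : V ≤ ⊤) half * t)) ?_
  rw [← algebraMap_eq, ← prod_scalar b (rX (le_top : V ≤ ⊤) half) (by rw [← map_ofNat (rX (le_top : V ≤ ⊤)) 2,
    ← map_mul, hhalf, map_one]) _ _ (h0 k) (h0 k')]
  exact (app_good hτ hg _).symm

include hA hτ hhalf in
theorem exists_dblAlg_kernel :
    ∃ m : CohB1.tensorMod (kernel τ) (kernel τ) ⟶ Coh.structureModule X,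
      FinCov.IsDblAlg (kernel τ) m A (kernel.ι τ) := by
  obtain ⟨m, hm⟩ := GrTildeLib.exists_tens_hom (M := kernel τ) (N := kernel τ) (P := Coh.structureModule X)
    (fun V k k' => rX (le_top : V ≤ ⊤) half * τL τ V (ιL τ V k * ιL τ V k'))
    (fun V k k₂ n => by rw [map_add, add_mul, map_add, mul_add])
    (fun V k n n₂ => by rw [map_add, mul_add, map_add, mul_add])
    (fun V r k n => by rw [map_smul, smul_mul_assoc, map_smul, smul_eq_mul, mul_left_comm]; rfl)
    (fun V r k n => by rw [map_smul, mul_smul_comm, map_smul, smul_eq_mul, mul_left_comm]; rfl)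
    (fun V W h k n => by
      show rX h (rX le_top half * τL τ W (ιL τ W k * ιL τ W n)) = _
      rw [map_mul, rX_comp, τL_res, map_mul, ← ιL_res, ← ιL_res])
  refine ⟨m, fun U => ?_, fun U l l' => ?_⟩
  · have hcast : (2 : Γ(X, U)) * rX (le_top : U ≤ ⊤) half = 1 := by
      rw [← map_ofNat (rX (le_top : U ≤ ⊤)) 2, ← map_mul, hhalf, map_one]
    have hτs : ∀ s : Γ(X, U), τL τ U ((A.str.app (op U)).hom s) = 2 * s := fun s =>
      (trace_str hA hτ U s).trans ((two_smul ℕ s).trans (two_mul s).symm)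
    refine ⟨fun p p' hp => ?_, fun a => ?_⟩
    · have hp' : (A.str.app (op U)).hom p.1 + ιL τ U p.2 = (A.str.app (op U)).hom p'.1 + ιL τ U p'.2 := hp
      have h1 := congrArg (τL τ U) hp'
      rw [map_add, map_add, τL_ιL, τL_ιL, add_zero, add_zero, hτs, hτs] at h1
      have h2 : p.1 = p'.1 := by linear_combination (rX (le_top : U ≤ ⊤) half) * h1 - (p.1 - p'.1) * hcast
      rw [h2, add_left_cancel_iff] at hp'
      exact Prod.ext h2 (ιL_injective τ U hp')
    · let s : Γ(X, U) := rX (le_top : U ≤ ⊤) half * τL τ U a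
      obtain ⟨k, hk⟩ := exists_ιL τ (a := a - (A.str.app (op U)).hom s) (by
        rw [map_sub, hτs, ← mul_assoc, hcast, one_mul, sub_self])
      refine ⟨(s, k), ?_⟩
      show (A.str.app (op U)).hom s + ιL τ U k = a
      rw [hk, add_sub_cancel]
  · refine (kernel_mul hA hτ half hhalf l l').trans (congrArg (A.str.app (op U)).hom ?_)
    exact (hm U l l').symm

end Dbl

end FinCovLib
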