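import Groth.Agent.FinCovLib.Sec

/-!
# The trace of a finite locally free algebra
-/

set_option autoImplicit false
set_option backward.isDefEq.respectTransparency false
set_option backward.isDefEq.respectTransparency.types false
universe u

open CategoryTheory CategoryTheory.Limits AlgebraicGeometry TopologicalSpace Opposite

noncomputable section

namespace FinCovLib

attribute [local instance] secAlg

variable {X : Scheme.{u}} {A : RelSpec.QCAlg X}

theorem tr_compat {V₁ V₂ : X.Opens} (h₁ : Good A V₁) (h₂ : Good A V₂) {U : X.Opens} (hU₁ : V₁ ≤ U)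
    (hU₂ : V₂ ≤ U) (a : A.presheaf.obj (op U)) {T : X.Opens} (hT₁ : T ≤ V₁) (hT₂ : T ≤ V₂) :
    rX hT₁ (tr A V₁ (rA A hU₁ a)) = rX hT₂ (tr A V₂ (rA A hU₂ a)) := by
  refine TopCat.Presheaf.section_ext X.sheaf T _ _ fun x hx => ?_
  obtain ⟨f, g, hfg, hxf⟩ := exists_basicOpen_le_affine_inter h₁.1 h₂.1 x ⟨hT₁ hx, hT₂ hx⟩
  have hxg : x ∈ X.basicOpen g := hfg ▸ hxf
  have key : ∀ (D : X.Opens) (e₁ : D ≤ V₁) (e₂ : D ≤ V₂), x ∈ D →
      rX e₁ (tr A V₁ (rA A hU₁ a)) = tr A D (rA A (e₁.trans hU₁) a) →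
      rX e₂ (tr A V₂ (rA A hU₂ a)) = tr A D (rA A (e₂.trans hU₂) a) →
      X.presheaf.germ T x hx (rX hT₁ (tr A V₁ (rA A hU₁ a))) =
        X.presheaf.germ T x hx (rX hT₂ (tr A V₂ (rA A hU₂ a))) := fun D e₁ e₂ hxD k₁ k₂ => by
    rw [TopCat.Presheaf.germ_res_apply, TopCat.Presheaf.germ_res_apply,
      ← TopCat.Presheaf.germ_res_apply X.presheaf (homOfLE e₁) x hxD,
      ← TopCat.Presheaf.germ_res_apply X.presheaf (homOfLE e₂) x hxD]
    exact congrArg (X.presheaf.germ D x hxD) (k₁.trans k₂.symm)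
  refine key (X.basicOpen f) (X.basicOpen_le f) (hfg.le.trans (X.basicOpen_le g)) hxf ?_ ?_
  · rw [← (tr_basicOpen h₁ f).2, rA_comp]
  · have k : ∀ (D : X.Opens), D = X.basicOpen g → ∀ e : D ≤ V₂,
        rX e (tr A V₂ (rA A hU₂ a)) = tr A D (rA A (e.trans hU₂) a) := by
      rintro _ rfl e
      rw [← rA_comp A hU₂ e, (tr_basicOpen h₂ g).2]
    exact k _ hfg _

/-- `t` restricts to the trace on every good open below `U` -/
def IsTr (A : RelSpec.QCAlg X) (U : X.Opens) (a : A.presheaf.obj (op U)) (t : Γ(X, U)) : Prop :=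
  ∀ (V : X.Opens) (hVU : V ≤ U), Good A V → rX hVU t = tr A V (rA A hVU a)

theorem exists_isTr (hA : FlatMod.IsFinLocFree A.toModule) (U : X.Opens) (a : A.presheaf.obj (op U)) :
    ∃! t, IsTr A U a t := by
  let ι := {V : X.Opens // V ≤ U ∧ Good A V}
  have hcov : U ≤ ⨆ i : ι, i.1 := fun x hx => by
    obtain ⟨V, hxV, hVU, hg⟩ := exists_good_near hA hx
    exact Opens.mem_iSup.mpr ⟨⟨V, hVU, hg⟩, hxV⟩
  obtain ⟨t, ht, huniq⟩ := X.sheaf.existsUnique_gluing' (fun i : ι => i.1) U (fun i => homOfLE i.2.1) hcov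
    (fun i => tr A i.1 (rA A i.2.1 a)) fun i j =>
      tr_compat i.2.2 j.2.2 i.2.1 j.2.1 a inf_le_left inf_le_right
  exact ⟨t, fun V hVU hg => ht ⟨V, hVU, hg⟩, fun s hs => huniq s fun i => hs i.1 i.2.1 i.2.2⟩

variable (hA : FlatMod.IsFinLocFree A.toModule)

/-- the trace on sections -/
def trSec (U : X.Opens) (a : A.presheaf.obj (op U)) : Γ(X, U) := (exists_isTr hA U a).choose

theorem trSec_spec (U : X.Opens) (a : A.presheaf.obj (op U)) : IsTr A U a (trSec hA U a) :=
  (exists_isTr hA U a).choose_spec.1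

theorem trSec_eq {U : X.Opens} {a : A.presheaf.obj (op U)} {t : Γ(X, U)} (h : IsTr A U a t) : trSec hA U a = t :=
  ((exists_isTr hA U a).choose_spec.2 t h).symm

theorem trSec_res {U W : X.Opens} (h : W ≤ U) (a : A.presheaf.obj (op U)) :
    rX h (trSec hA U a) = trSec hA W (rA A h a) :=
  (trSec_eq hA fun V hVW hg => by rw [rX_comp, rA_comp]; exact trSec_spec hA U a V (hVW.trans h) hg).symm

theorem trSec_add (U : X.Opens) (a b : A.presheaf.obj (op U)) :
    trSec hA U (a + b) = trSec hA U a + trSec hA U b :=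
  trSec_eq hA fun V hVU hg => by
    rw [map_add, map_add, trSec_spec hA U a V hVU hg, trSec_spec hA U b V hVU hg]
    exact (map_add (Algebra.trace _ _) _ _).symm

theorem trSec_smul (U : X.Opens) (s : Γ(X, U)) (a : A.presheaf.obj (op U)) :
    trSec hA U (s • a) = s * trSec hA U a :=
  trSec_eq hA fun V hVU hg => by
    rw [map_mul, trSec_spec hA U a V hVU hg, rA_smul]
    exact ((Algebra.trace _ _).map_smul _ _).symm

/-- the trace as a map of modules -/
def traceHom : A.toModule ⟶ Coh.structureModule X :=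
  ⟨letI := A.moduleSect
   PresheafOfModules.homMk
    { app := fun U => AddCommGrpCat.ofHom (AddMonoidHom.mk' (trSec hA U.unop) (trSec_add hA U.unop))
      naturality := fun U V i => by
        ext a
        exact (trSec_res hA i.unop.le a).symm }
    (fun U r a => trSec_smul hA U.unop r a)⟩

theorem traceHom_app (U : X.Opens) (a : A.presheaf.obj (op U)) :
    ((traceHom hA).val.app (op U)).hom a = trSec hA U a := rfl

theorem isTrace_traceHom : FinCov.IsTrace A (traceHom hA) := fun U hU hfree hfin a => by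
  have h := trSec_spec hA U a U le_rfl ⟨hU, hfree, hfin⟩
  rw [rX_refl, rA_refl] at h
  exact (traceHom_app hA U a).trans h

variable {τ : A.toModule ⟶ Coh.structureModule X}

theorem app_res (τ : A.toModule ⟶ Coh.structureModule X) {U V : X.Opens} (h : V ≤ U)
    (a : A.presheaf.obj (op U)) :
    rX h ((τ.val.app (op U)).hom a) = (τ.val.app (op V)).hom (rA A h a) :=
  (PresheafOfModules.naturality_apply τ.val (homOfLE h).op a).symm

theorem app_good (hτ : FinCov.IsTrace A τ) {V : X.Opens} (hV : Good A V) (a : A.presheaf.obj (op V)) :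
    (τ.val.app (op V)).hom a = tr A V a :=
  hτ V hV.1 hV.2.1 hV.2.2 a

theorem isTr_app (hτ : FinCov.IsTrace A τ) (U : X.Opens) (a : A.presheaf.obj (op U)) :
    IsTr A U a ((τ.val.app (op U)).hom a) := fun V hVU hg =>
  (app_res τ hVU a).trans (app_good hτ hg _)

include hA in
theorem isTrace_unique (hτ : FinCov.IsTrace A τ) : τ = traceHom hA := by
  refine Scheme.Modules.hom_ext _ _ fun U => ?_
  ext a
  exact ((trSec_eq hA (isTr_app hτ U a)).symm.trans (traceHom_app hA U a).symm)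

/-- two morphisms to the structure sheaf agreeing on small opens agree -/
theorem fun_ext_local {U : X.Opens} {s t : Γ(X, U)}
    (h : ∀ x ∈ U, ∃ (V : X.Opens) (hVU : V ≤ U), x ∈ V ∧ rX hVU s = rX hVU t) : s = t := by
  refine TopCat.Presheaf.section_ext X.sheaf U _ _ fun x hx => ?_
  obtain ⟨V, hVU, hxV, e⟩ := h x hx
  show X.presheaf.germ U x hx s = X.presheaf.germ U x hx t
  rw [← TopCat.Presheaf.germ_res_apply X.presheaf (homOfLE hVU) x hxV,
    ← TopCat.Presheaf.germ_res_apply X.presheaf (homOfLE hVU) x hxV]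
  exact congrArg (X.presheaf.germ V x hxV) e

theorem trace_str {d : ℕ} (hd : FlatMod.IsFinLocFreeOfRank d A.toModule) (hτ : FinCov.IsTrace A τ)
    (U : X.Opens) (s : Γ(X, U)) :
    (τ.val.app (op U)).hom ((A.str.app (op U)).hom s) = d • s := by
  refine fun_ext_local fun x hx => ?_
  obtain ⟨V, hV, hxV, hVU, ⟨b⟩⟩ := exists_basis_near A hd hx
  refine ⟨V, hVU, hxV, ?_⟩
  rw [map_nsmul, app_res τ hVU, rA_str, app_good hτ (good_of_basis hV b), ← algebraMap_eq]
  refine (Algebra.trace_algebraMap_of_basis b _).trans ?_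
  rw [Fintype.card_fin]

end FinCovLib
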