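import Groth.Agent.FinCovLib.Dbl

/-!
# Construction of `O ⊕ L`
-/

set_option autoImplicit false
set_option backward.isDefEq.respectTransparency false
set_option backward.isDefEq.respectTransparency.types false
universe u

open CategoryTheory CategoryTheory.Limits AlgebraicGeometry TopologicalSpace Opposite

noncomputable section

namespace FinCovLib

variable {X : Scheme.{u}} (L : X.Modules) (m : CohB1.tensorMod L L ⟶ Coh.structureModule X)

/-- restriction of sections of `L` -/
abbrev rL {U V : X.Opens} (h : V ≤ U) (l : Γ(L, U)) : Γ(L, V) := ProjFormLib.res L h l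

theorem rL_comp {U V W : X.Opens} (h : V ≤ U) (h' : W ≤ V) (l : Γ(L, U)) : rL L h' (rL L h l) = rL L (h'.trans h) l :=
  QCohLib.map_map' L (homOfLE h') (homOfLE h) l

theorem rL_refl {U : X.Opens} (l : Γ(L, U)) : rL L (le_refl U) l = l :=
  ConcreteCategory.congr_hom (L.presheaf.map_id (op U)) l

theorem rL_smul {U V : X.Opens} (h : V ≤ U) (r : Γ(X, U)) (l : Γ(L, U)) : rL L h (r • l) = rX h r • rL L h l :=
  QCohLib.map_smul' L (homOfLE h) r l

theorem rL_add {U V : X.Opens} (h : V ≤ U) (l l' : Γ(L, U)) : rL L h (l + l') = rL L h l + rL L h l' :=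
  map_add (L.presheaf.map (homOfLE h).op).hom l l'

/-- the pairing on sections -/
def pr (U : X.Opens) (l l' : Γ(L, U)) : Γ(X, U) := (m.val.app (op U)).hom (SecTwist.tmul L L U l l')

theorem pr_res {U V : X.Opens} (h : V ≤ U) (l l' : Γ(L, U)) :
    rX h (pr L m U l l') = pr L m V (rL L h l) (rL L h l') := by
  refine (PresheafOfModules.naturality_apply m.val (homOfLE h).op _).symm.trans ?_
  exact congrArg (m.val.app (op V)).hom (SecTwist.map_tmul L L (homOfLE h) l l')

theorem pr_add_left (U : X.Opens) (a b c : Γ(L, U)) : pr L m U (a + b) c = pr L m U a c + pr L m U b c := by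
  refine Eq.trans (congrArg (m.val.app (op U)).hom ?_) ((m.val.app (op U)).hom.map_add _ _)
  exact (congrArg ((SecTwist.toTensor L L).app (op U)).hom (TensorProduct.add_tmul _ _ _)).trans
    (((SecTwist.toTensor L L).app (op U)).hom.map_add _ _)

theorem pr_add_right (U : X.Opens) (a b c : Γ(L, U)) : pr L m U a (b + c) = pr L m U a b + pr L m U a c := by
  refine Eq.trans (congrArg (m.val.app (op U)).hom ?_) ((m.val.app (op U)).hom.map_add _ _)
  exact (congrArg ((SecTwist.toTensor L L).app (op U)).hom (TensorProduct.tmul_add _ _ _)).trans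
    (((SecTwist.toTensor L L).app (op U)).hom.map_add _ _)

theorem pr_smul_left (U : X.Opens) (r : Γ(X, U)) (a c : Γ(L, U)) : pr L m U (r • a) c = r * pr L m U a c := by
  refine Eq.trans (congrArg (m.val.app (op U)).hom ?_) ((m.val.app (op U)).hom.map_smul _ _)
  exact (congrArg ((SecTwist.toTensor L L).app (op U)).hom (TensorProduct.smul_tmul' (show ((X.sheaf.obj ⋙ forget₂ CommRingCat RingCat).obj (op U)) from r) _ _).symm).trans
    (((SecTwist.toTensor L L).app (op U)).hom.map_smul _ _)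

theorem pr_smul_right (U : X.Opens) (r : Γ(X, U)) (a c : Γ(L, U)) : pr L m U a (r • c) = r * pr L m U a c := by
  refine Eq.trans (congrArg (m.val.app (op U)).hom ?_) ((m.val.app (op U)).hom.map_smul _ _)
  exact (congrArg ((SecTwist.toTensor L L).app (op U)).hom (TensorProduct.tmul_smul (show ((X.sheaf.obj ⋙ forget₂ CommRingCat RingCat).obj (op U)) from r) _ _)).trans
    (((SecTwist.toTensor L L).app (op U)).hom.map_smul _ _)

theorem lSec_ext {U : X.Opens} {l l' : Γ(L, U)}
    (h : ∀ x ∈ U, ∃ (V : X.Opens) (hVU : V ≤ U), x ∈ V ∧ rL L hVU l = rL L hVU l') : l = l' :=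
  ProjFormLib.section_ext _ _ fun x hx => by
    obtain ⟨V, hVU, hxV, e⟩ := h x hx
    rw [← ProjFormLib.ger_res L hVU x hxV, ← ProjFormLib.ger_res L hVU x hxV]
    exact congrArg (ProjFormLib.ger L x hxV) e

variable {L} (hL : PicF.IsInvertible L)

include hL in
theorem exists_local_gen {U : X.Opens} {x : X} (hx : x ∈ U) :
    ∃ (V : X.Opens) (_ : V ≤ U) (e : Γ(L, V)), x ∈ V ∧ Function.Surjective fun c : Γ(X, V) => c • e := by
  obtain ⟨W, e, hxW, -, he⟩ := exists_gen_near hL x
  obtain ⟨V, hV, hxV, hVW⟩ := exists_isAffineOpen_mem_and_subset (x := x) (U := U ⊓ W) ⟨hx, hxW⟩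
  exact ⟨V, le_trans hVW inf_le_left, _, hxV, (he V hV (le_trans hVW inf_le_right)).2⟩

include hL in
theorem pr_comm (U : X.Opens) (a b : Γ(L, U)) : pr L m U a b = pr L m U b a := by
  refine fun_ext_local fun x hx => ?_
  obtain ⟨V, hVU, e, hxV, he⟩ := exists_local_gen hL hx
  refine ⟨V, hVU, hxV, ?_⟩
  obtain ⟨c, hc⟩ := he (rL L hVU a)
  obtain ⟨d, hd⟩ := he (rL L hVU b)
  rw [pr_res, pr_res, ← hc, ← hd, pr_smul_left, pr_smul_right, pr_smul_left, pr_smul_right, mul_left_comm]

include hL in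
theorem pr_assoc (U : X.Opens) (a b c : Γ(L, U)) : pr L m U a b • c = pr L m U b c • a := by
  refine lSec_ext L fun x hx => ?_
  obtain ⟨V, hVU, e, hxV, he⟩ := exists_local_gen hL hx
  refine ⟨V, hVU, hxV, ?_⟩
  obtain ⟨p, hp⟩ := he (rL L hVU a)
  obtain ⟨q, hq⟩ := he (rL L hVU b)
  obtain ⟨s, hs⟩ := he (rL L hVU c)
  rw [rL_smul, rL_smul, pr_res, pr_res, ← hp, ← hq, ← hs, pr_smul_left, pr_smul_right, pr_smul_left, pr_smul_right,
    smul_smul, smul_smul]
  congr 1
  ring

/-- sections of `O ⊕ L` -/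
@[ext] structure DblSec (m : CohB1.tensorMod L L ⟶ Coh.structureModule X) (hL : PicF.IsInvertible L)
    (U : X.Opens) where
  fn : Γ(X, U)
  lin : Γ(L, U)

variable {m hL} {U : X.Opens}

instance : Zero (DblSec m hL U) := ⟨⟨0, 0⟩⟩
instance : One (DblSec m hL U) := ⟨⟨1, 0⟩⟩
instance : Add (DblSec m hL U) := ⟨fun p q => ⟨p.fn + q.fn, p.lin + q.lin⟩⟩
instance : Neg (DblSec m hL U) := ⟨fun p => ⟨-p.fn, -p.lin⟩⟩
instance : Mul (DblSec m hL U) :=
  ⟨fun p q => ⟨p.fn * q.fn + pr L m U p.lin q.lin, p.fn • q.lin + q.fn • p.lin⟩⟩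

@[simp] theorem zero_fn : (0 : DblSec m hL U).fn = 0 := rfl
@[simp] theorem zero_lin : (0 : DblSec m hL U).lin = 0 := rfl
@[simp] theorem one_fn : (1 : DblSec m hL U).fn = 1 := rfl
@[simp] theorem one_lin : (1 : DblSec m hL U).lin = 0 := rfl
@[simp] theorem add_fn (p q : DblSec m hL U) : (p + q).fn = p.fn + q.fn := rfl
@[simp] theorem add_lin (p q : DblSec m hL U) : (p + q).lin = p.lin + q.lin := rfl
@[simp] theorem neg_fn (p : DblSec m hL U) : (-p).fn = -p.fn := rfl
@[simp] theorem neg_lin (p : DblSec m hL U) : (-p).lin = -p.lin := rfl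
@[simp] theorem mul_fn (p q : DblSec m hL U) : (p * q).fn = p.fn * q.fn + pr L m U p.lin q.lin := rfl
@[simp] theorem mul_lin (p q : DblSec m hL U) : (p * q).lin = p.fn • q.lin + q.fn • p.lin := rfl

theorem pr_zero_left (U : X.Opens) (a : Γ(L, U)) : pr L m U 0 a = 0 := by
  rw [← zero_smul Γ(X, U) (0 : Γ(L, U)), pr_smul_left, zero_mul]

instance : CommRing (DblSec m hL U) := CommRing.ofMinimalAxioms
  (fun p q r => DblSec.ext (add_assoc _ _ _) (add_assoc _ _ _))
  (fun p => DblSec.ext (zero_add _) (zero_add _))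
  (fun p => DblSec.ext (neg_add_cancel _) (neg_add_cancel _))
  (fun p q r => DblSec.ext
    (by simp only [mul_fn, mul_lin, pr_add_left, pr_add_right, pr_smul_left, pr_smul_right]; ring)
    (by simp only [mul_fn, mul_lin, add_smul, pr_assoc m hL U p.lin q.lin r.lin]; module))
  (fun p q => DblSec.ext (congr_arg₂ (· + ·) (mul_comm _ _) (pr_comm m hL U _ _)) (add_comm _ _))
  (fun p => DblSec.ext (by simp [pr_zero_left]) (by simp))
  (fun p q r => DblSec.ext (by simp only [mul_fn, add_fn, add_lin, pr_add_right]; ring)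
    (by simp only [mul_lin, add_fn, add_lin, smul_add, add_smul]; exact add_add_add_comm _ _ _ _))

variable (m hL)

/-- restriction -/
def dblRes {U V : X.Opens} (h : V ≤ U) :
    DblSec m hL U →+* DblSec m hL V :=
  { toFun := fun p => ⟨rX h p.fn, rL L h p.lin⟩
    map_one' := DblSec.ext (map_one (rX h)) (map_zero (L.presheaf.map (homOfLE h).op).hom)
    map_zero' := DblSec.ext (map_zero (rX h)) (map_zero (L.presheaf.map (homOfLE h).op).hom)
    map_add' := fun p q => DblSec.ext (map_add (rX h) _ _) (rL_add L h _ _)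
    map_mul' := fun p q => DblSec.ext
      (by
        change rX h (p.fn * q.fn + pr L m U p.lin q.lin) = _
        rw [map_add, map_mul, pr_res]; rfl)
      (by
        change rL L h (p.fn • q.lin + q.fn • p.lin) = _
        rw [rL_add, rL_smul, rL_smul]; rfl) }

/-- the structure map -/
def dblStr (U : X.Opens) : Γ(X, U) →+* DblSec m hL U :=
  { toFun := fun s => ⟨s, 0⟩
    map_one' := rfl
    map_zero' := rfl
    map_add' := fun s t => DblSec.ext rfl (add_zero (0 : Γ(L, U))).symm
    map_mul' := fun s t => DblSec.ext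
      (by
        change s * t = s * t + pr L m U 0 0
        rw [← zero_smul Γ(X, U) (0 : Γ(L, U)), pr_smul_right, zero_mul, add_zero])
      (by
        change (0 : Γ(L, U)) = s • (0 : Γ(L, U)) + t • (0 : Γ(L, U))
        rw [smul_zero, smul_zero, add_zero]) }

/-- the presheaf of rings -/
def dblPresheaf : TopCat.Presheaf CommRingCat.{u} X.carrier where
  obj U := CommRingCat.of (DblSec m hL U.unop)
  map {U V} i := CommRingCat.ofHom (dblRes m hL i.unop.le)
  map_id U := by
    refine CommRingCat.hom_ext (RingHom.ext fun p => DblSec.ext ?_ ?_)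
    · exact rX_refl p.fn
    · exact rL_refl L p.lin
  map_comp f g := by
    refine CommRingCat.hom_ext (RingHom.ext fun p => DblSec.ext ?_ ?_)
    · exact (rX_comp f.unop.le g.unop.le p.fn).symm
    · exact (rL_comp L f.unop.le g.unop.le p.lin).symm

/-- the structure map of presheaves -/
def dblStrHom : X.presheaf ⟶ dblPresheaf m hL where
  app U := CommRingCat.ofHom (dblStr m hL U.unop)
  naturality U V i := by
    refine CommRingCat.hom_ext (RingHom.ext fun s => DblSec.ext ?_ ?_)
    · rfl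
    · exact (map_zero (L.presheaf.map (homOfLE i.unop.le).op).hom).symm

theorem dblPresheaf_isSheaf : (dblPresheaf m hL).IsSheaf := by
  rw [TopCat.Presheaf.isSheaf_iff_isSheafUniqueGluing]
  intro κ U sf cpt
  obtain ⟨s, hs, hsu⟩ := X.sheaf.existsUnique_gluing U (fun i => (sf i).fn) fun i j =>
    congrArg DblSec.fn (cpt i j)
  let LS : TopCat.Sheaf AddCommGrpCat.{u} X.toTopCat := ⟨L.presheaf, L.isSheaf⟩
  obtain ⟨l, hl, hlu⟩ := LS.existsUnique_gluing U (fun i => (sf i).lin) fun i j =>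
    congrArg DblSec.lin (cpt i j)
  refine ⟨⟨s, l⟩, fun i => DblSec.ext (hs i) (hl i), fun t ht => DblSec.ext ?_ ?_⟩
  · exact hsu t.fn fun i => congrArg DblSec.fn (ht i)
  · exact hlu t.lin fun i => congrArg DblSec.lin (ht i)

theorem dblStr_mul (U : X.Opens) (c : Γ(X, U)) (p : DblSec m hL U) :
    dblStr m hL U c * p = ⟨c * p.fn, c • p.lin⟩ := by
  refine DblSec.ext ?_ ?_
  · change c * p.fn + pr L m U 0 p.lin = c * p.fn
    rw [← zero_smul Γ(X, U) (0 : Γ(L, U)), pr_smul_left, zero_mul, add_zero]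
  · change c • p.lin + p.fn • (0 : Γ(L, U)) = c • p.lin
    rw [smul_zero, add_zero]

theorem dblPresheaf_isQC : RelSpec.IsQC (dblPresheaf m hL) (dblStrHom m hL) := by
  intro U hU r
  letI : Algebra (DblSec m hL U) (DblSec m hL (X.basicOpen r)) := (dblRes m hL (X.basicOpen_le r)).toAlgebra
  change IsLocalization.Away (dblStr m hL U r) (DblSec m hL (X.basicOpen r))
  haveI : Coh.IsQCoh L := FinLFAnn.isQCoh_of_isFinLocFree (AmpleDevLib.isFinLocFree_of_isInvertible hL)
  have hloc := (QCohLib.isQCoh_iff_localizingAt L).mp inferInstance U hU r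
  let : Algebra Γ(X, U) Γ(X, X.basicOpen r) := (rX (X.basicOpen_le r)).toAlgebra
  haveI : IsLocalization.Away r Γ(X, X.basicOpen r) := hU.isLocalization_basicOpen r
  let D := X.basicOpen r
  let r' : Γ(X, D) := rX (X.basicOpen_le r) r
  have hres : ∀ n, dblRes m hL (X.basicOpen_le r) (dblStr m hL U r ^ n) = dblStr m hL D (r' ^ n) := fun n => by
    rw [map_pow, map_pow]
    refine congrArg (· ^ n) (DblSec.ext rfl ?_)
    exact map_zero (L.presheaf.map (homOfLE (X.basicOpen_le r)).op).hom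
  refine IsLocalization.Away.mk _ ?_ ?_ ?_
  · change IsUnit (dblRes m hL (X.basicOpen_le r) (dblStr m hL U r))
    rw [← pow_one (dblStr m hL U r), hres, pow_one]
    exact (RingedSpace.isUnit_res_basicOpen X.toRingedSpace r).map _
  · intro z
    obtain ⟨n₁, a, ha⟩ := IsLocalization.Away.surj r z.fn
    obtain ⟨n₂, b, hb⟩ := hloc.exists_extend z.lin
    refine ⟨n₁ + n₂, ⟨r ^ n₂ * a, r ^ n₁ • b⟩, ?_⟩
    change z * dblRes m hL (X.basicOpen_le r) (dblStr m hL U r) ^ (n₁ + n₂) = _
    rw [← map_pow, hres, mul_comm, dblStr_mul]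
    refine DblSec.ext ?_ ?_
    · change r' ^ (n₁ + n₂) * z.fn = rX (X.basicOpen_le r) (r ^ n₂ * a)
      have ha' : z.fn * r' ^ n₁ = rX (X.basicOpen_le r) a := ha
      rw [map_mul, map_pow, ← ha']
      ring
    · change r' ^ (n₁ + n₂) • z.lin = rL L (X.basicOpen_le r) (r ^ n₁ • b)
      rw [rL_smul, map_pow, pow_add, mul_smul]
      exact congrArg (r' ^ n₁ • ·) hb.symm
  · intro p q hpq
    have h1 : rX (X.basicOpen_le r) p.fn = rX (X.basicOpen_le r) q.fn := congrArg DblSec.fn hpq
    have h2 : rL L (X.basicOpen_le r) p.lin = rL L (X.basicOpen_le r) q.lin := congrArg DblSec.lin hpq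
    obtain ⟨n₁, hn₁⟩ := IsLocalization.Away.exists_of_eq r h1
    obtain ⟨n₂, hn₂⟩ := hloc.eq_zero (p.lin - q.lin)
      ((map_sub (L.presheaf.map (homOfLE (X.basicOpen_le r)).op).hom _ _).trans (sub_eq_zero.mpr h2))
    change rX le_rfl r ^ n₂ • (p.lin - q.lin) = 0 at hn₂
    rw [rX_refl, smul_sub, sub_eq_zero] at hn₂
    refine ⟨n₁ + n₂, ?_⟩
    rw [← map_pow, dblStr_mul, dblStr_mul]
    refine DblSec.ext ?_ ?_
    · change r ^ (n₁ + n₂) * p.fn = r ^ (n₁ + n₂) * q.fn
      rw [pow_add, mul_right_comm, hn₁]; ring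
    · change r ^ (n₁ + n₂) • p.lin = r ^ (n₁ + n₂) • q.lin
      rw [pow_add, mul_smul, mul_smul, hn₂]

/-- the algebra `O ⊕ L` -/
def dblAlg : RelSpec.QCAlg X where
  presheaf := dblPresheaf m hL
  isSheaf := dblPresheaf_isSheaf m hL
  str := dblStrHom m hL
  isQC := dblPresheaf_isQC m hL

/-- the inclusion of `L` -/
def dblIncl : L ⟶ (dblAlg m hL).toModule :=
  ⟨letI := (dblAlg m hL).moduleSect
   PresheafOfModules.homMk
    { app := fun U =>
        AddCommGrpCat.ofHom (AddMonoidHom.mk' (fun l => (⟨0, l⟩ : DblSec m hL U.unop))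
          fun a b => DblSec.ext (add_zero (0 : Γ(X, U.unop))).symm rfl)
      naturality := fun U V i => by
        ext l
        exact DblSec.ext (map_zero (rX i.unop.le)).symm rfl }
    (fun U c l => by
      show (⟨0, c • l⟩ : DblSec m hL U.unop) = dblStr m hL U.unop c * ⟨0, l⟩
      rw [dblStr_mul]
      exact DblSec.ext (mul_zero _).symm rfl)⟩

theorem isDblAlg_dblAlg : FinCov.IsDblAlg L m (dblAlg m hL) (dblIncl m hL) := by
  refine ⟨fun U => ?_, fun U l l' => ?_⟩
  · refine (congrArg Function.Bijective (funext fun p => ?_)).mpr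
      (⟨fun p q h => Prod.ext (congrArg DblSec.fn h) (congrArg DblSec.lin h), fun z => ⟨(z.fn, z.lin), rfl⟩⟩ :
        Function.Bijective fun p : Γ(X, U) × Γ(L, U) => (⟨p.1, p.2⟩ : DblSec m hL U))
    show dblStr m hL U p.1 + (⟨0, p.2⟩ : DblSec m hL U) = ⟨p.1, p.2⟩
    exact DblSec.ext (add_zero _) (zero_add _)
  · show (⟨0, l⟩ : DblSec m hL U) * ⟨0, l'⟩ = dblStr m hL U (pr L m U l l')
    refine DblSec.ext ?_ ?_
    · change 0 * 0 + pr L m U l l' = pr L m U l l'
      rw [zero_mul, zero_add]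
    · change (0 : Γ(X, U)) • l' + (0 : Γ(X, U)) • l = 0
      rw [zero_smul, zero_smul, add_zero]

end FinCovLib
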