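import Groth.Agent.FinCovLib.Trace
import Groth.Agent.AmpleDevLib.Devissage

/-!
# Algebras `O ⊕ L`
-/

set_option autoImplicit false
set_option backward.isDefEq.respectTransparency false
set_option backward.isDefEq.respectTransparency.types false
universe u

open CategoryTheory CategoryTheory.Limits AlgebraicGeometry TopologicalSpace Opposite

noncomputable section

namespace FinCovLib

attribute [local instance] secAlg

variable {X : Scheme.{u}} {L : X.Modules} {m : CohB1.tensorMod L L ⟶ Coh.structureModule X}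
  {A : RelSpec.QCAlg X} {j : L ⟶ A.toModule}

/-- the image of a section of `L` in the algebra -/
abbrev jS (j : L ⟶ A.toModule) {U : X.Opens} (l : Γ(L, U)) : A.presheaf.obj (op U) :=
  (j.val.app (op U)).hom l

theorem jS_smul (j : L ⟶ A.toModule) {U : X.Opens} (r : Γ(X, U)) (l : Γ(L, U)) :
    jS j (r • l) = r • jS j l :=
  (j.val.app (op U)).hom.map_smul r l

theorem jS_res (j : L ⟶ A.toModule) {U V : X.Opens} (h : V ≤ U) (l : Γ(L, U)) :
    jS j (ProjFormLib.res L h l) = rA A h (jS j l) :=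
  PresheafOfModules.naturality_apply j.val (homOfLE h).op l

variable (h : FinCov.IsDblAlg L m A j)

include h in
theorem dbl_bijective {V : X.Opens} {e : Γ(L, V)}
    (he : Function.Bijective fun c : Γ(X, V) => c • e) :
    Function.Bijective fun c : Fin 2 → Γ(X, V) =>
      c 0 • (1 : A.presheaf.obj (op V)) + c 1 • jS j e := by
  have heq : (fun c : Fin 2 → Γ(X, V) => c 0 • (1 : A.presheaf.obj (op V)) + c 1 • jS j e) =
      (fun p : Γ(X, V) × Γ(L, V) => (A.str.app (op V)).hom p.1 + jS j p.2) ∘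
        fun c => (c 0, c 1 • e) := funext fun c => by
    simp only [Function.comp_apply, jS_smul, Algebra.smul_def, mul_one, algebraMap_eq]
  rw [heq]
  refine (h.1 V).comp ⟨fun c c' hc => ?_, fun p => ?_⟩
  · obtain ⟨h0, h1⟩ := Prod.ext_iff.mp hc
    exact funext (Fin.forall_fin_two.mpr ⟨h0, he.1 h1⟩)
  · obtain ⟨c, hc⟩ := he.2 p.2
    refine ⟨![p.1, c], Prod.ext ?_ ?_⟩
    · simp
    · simpa using hc

theorem exists_gen_near (hL : PicF.IsInvertible L) (x : X) :
    ∃ (U : X.Opens) (e : Γ(L, U)), x ∈ U ∧ ProjFormLib.IsFrame L (fun _ : Fin 1 => e) ∧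
      ∀ (V : X.Opens), IsAffineOpen V → ∀ hVU : V ≤ U,
        Function.Bijective fun c : Γ(X, V) => c • ProjFormLib.res L hVU e := by
  haveI : Coh.IsQCoh L := FinLFAnn.isQCoh_of_isFinLocFree (AmpleDevLib.isFinLocFree_of_isInvertible hL)
  obtain ⟨U, e, hx, he⟩ := exists_frame_rank (CurvLib.locFree_of_isInvertible hL) x
  have hee : e = fun _ => e 0 := funext fun i => congrArg e (Subsingleton.elim i 0)
  refine ⟨U, e 0, hx, hee ▸ he, fun V hV hVU => ?_⟩
  have hb := (frame_bijective' he hV hVU).comp (Equiv.funUnique (Fin 1) Γ(X, V)).symm.bijective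
  have heq : (fun c : Fin 1 → Γ(X, V) => ∑ i, c i • ProjFormLib.res L hVU (e i)) ∘
      (Equiv.funUnique (Fin 1) Γ(X, V)).symm = fun c => c • ProjFormLib.res L hVU (e 0) :=
    funext fun c => by simp
  exact heq ▸ hb

include h in
theorem dbl_rank (hL : PicF.IsInvertible L) : FlatMod.IsFinLocFreeOfRank 2 A.toModule := by
  refine GrassSch.rank_of_frames fun x => ?_
  obtain ⟨U, e, hx, -, he⟩ := exists_gen_near hL x
  refine ⟨U, ![(1 : A.presheaf.obj (op U)), jS j e], hx, isFrame_of_bases _ fun V hV hVU => ?_⟩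
  refine (congrArg Function.Bijective (funext fun c => ?_)).mpr (dbl_bijective h (he V hV hVU))
  refine (Fin.sum_univ_two _).trans ?_
  refine congr_arg₂ (· + ·) (congrArg (c 0 • ·) ?_) (congrArg (c 1 • ·) ?_)
  · exact map_one (rA A hVU)
  · exact (jS_res j hVU e).symm

/-- the basis `1, j e` -/
def dblBasis {V : X.Opens} {e : Γ(L, V)} (he : Function.Bijective fun c : Γ(X, V) => c • e) :
    Module.Basis (Fin 2) Γ(X, V) (A.presheaf.obj (op V)) :=
  let Φ : (Fin 2 → Γ(X, V)) →ₗ[Γ(X, V)] A.presheaf.obj (op V) :=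
    Fintype.linearCombination Γ(X, V) ![(1 : A.presheaf.obj (op V)), jS j e]
  have hΦ : Function.Bijective Φ := by
    refine (congrArg Function.Bijective (funext fun c => ?_)).mpr (dbl_bijective h he)
    simp [Φ, Fintype.linearCombination_apply, Fin.sum_univ_two]
  Module.Basis.ofEquivFun (LinearEquiv.ofBijective Φ hΦ).symm

theorem dblBasis_apply {V : X.Opens} {e : Γ(L, V)} (he : Function.Bijective fun c : Γ(X, V) => c • e) (i : Fin 2) :
    dblBasis h he i = ![(1 : A.presheaf.obj (op V)), jS j e] i := by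
  classical
  rw [dblBasis, Module.Basis.coe_ofEquivFun]
  simp [Fintype.linearCombination_apply, Pi.single_apply]

include h in
theorem tr_jS {V : X.Opens} {e : Γ(L, V)} (he : Function.Bijective fun c : Γ(X, V) => c • e) :
    tr A V (jS j e) = 0 := by
  classical
  let b := dblBasis h he
  have h0 : b 0 = 1 := dblBasis_apply h he 0
  have h1 : b 1 = jS j e := dblBasis_apply h he 1
  have hmul : jS j e * jS j e = (show Γ(X, V) from (m.val.app (op V)).hom (SecTwist.tmul L L V e e)) • b 0 := by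
    rw [h0, Algebra.smul_def, mul_one]
    exact h.2 V e e
  rw [tr, Algebra.trace_eq_matrix_trace b, Matrix.trace_fin_two, Algebra.leftMulMatrix_eq_repr_mul,
    Algebra.leftMulMatrix_eq_repr_mul, h0, mul_one, h1, hmul, ← h1, map_smul]
  simp [b.repr_self_apply]

include h in
theorem trace_jS (hL : PicF.IsInvertible L) {τ : A.toModule ⟶ Coh.structureModule X}
    (hτ : FinCov.IsTrace A τ) (U : X.Opens) (l : Γ(L, U)) :
    (τ.val.app (op U)).hom (jS j l) = 0 := by
  refine fun_ext_local fun x hx => ?_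
  obtain ⟨W, e, hxW, -, he⟩ := exists_gen_near hL x
  obtain ⟨V, hV, hxV, hVW⟩ := exists_isAffineOpen_mem_and_subset (x := x) (U := U ⊓ W) ⟨hx, hxW⟩
  have hVU : V ≤ U := le_trans hVW inf_le_left
  have heV := he V hV (le_trans hVW inf_le_right)
  refine ⟨V, hVU, hxV, ?_⟩
  obtain ⟨c, hc⟩ := heV.2 (ProjFormLib.res L hVU l)
  rw [map_zero, app_res τ hVU, ← jS_res, ← hc, jS_smul, app_good hτ (good_of_basis hV (dblBasis h heV))]
  refine ((Algebra.trace _ _).map_smul c _).trans ?_
  rw [show Algebra.trace Γ(X, V) (A.presheaf.obj (op V)) (jS j (ProjFormLib.res L _ e)) = 0 from tr_jS h heV,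
    smul_zero]

include h in
theorem mem_range_iff (hL : PicF.IsInvertible L) (h2 : IsUnit (2 : Γ(X, ⊤))) {τ : A.toModule ⟶ Coh.structureModule X}
    (hτ : FinCov.IsTrace A τ) (U : X.Opens) (a : A.presheaf.obj (op U)) :
    (τ.val.app (op U)).hom a = 0 ↔ ∃ l : Γ(L, U), jS j l = a := by
  constructor
  · intro ha
    obtain ⟨⟨s, l⟩, rfl⟩ := (h.1 U).2 a
    have hs : (τ.val.app (op U)).hom ((A.str.app (op U)).hom s + jS j l) = 2 • s := by
      refine ((τ.val.app (op U)).hom.map_add _ _).trans ?_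
      rw [trace_str (dbl_rank h hL) hτ, trace_jS h hL hτ, add_zero]
    have h2U : IsUnit (2 : Γ(X, U)) := map_ofNat (rX (le_top : U ≤ ⊤)) 2 ▸ h2.map _
    have : s = 0 := h2U.mul_right_eq_zero.mp (by
      rw [← Nat.cast_ofNat (R := Γ(X, U)), ← nsmul_eq_mul]
      exact hs.symm.trans ha)
    exact ⟨l, by simp [this, jS]⟩
  · rintro ⟨l, rfl⟩
    exact trace_jS h hL hτ U l

end FinCovLib
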